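import Mathlib
import Cfsg.Agent.NR2.Simple
import Cfsg.Agent.PLocal.AmbSyl

set_option autoImplicit false
set_option linter.unusedSectionVars false

/-! A normal four-group with fused involutions: the element of `3`-power order acting on its
centralizer. -/

namespace Cfsg.Agent.NR2
open Cfsg Subgroup MacW PLocal.Amb
open scoped commutatorElement

variable {P G : Type*} [Group P] [Group G]

/-- `g` conjugates `ι x` to `ι y` -/
def Cj (ι : P →* G) (g : G) (x y : P) : Prop := ι y = g * ι x * g⁻¹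

namespace Cj
variable {ι : P →* G} {g h : G} {x y x' y' : P}

theorem mul (a : Cj ι g x y) (b : Cj ι g x' y') : Cj ι g (x * x') (y * y') := by
  unfold Cj at *; rw [map_mul, map_mul, a, b]; group

theorem one : Cj ι g 1 1 := by simp [Cj]

theorem inv (a : Cj ι g x y) : Cj ι g x⁻¹ y⁻¹ := by
  unfold Cj at *; rw [map_inv, map_inv, a]; group

theorem pow (a : Cj ι g x y) (n : ℕ) : Cj ι g (x ^ n) (y ^ n) := by
  unfold Cj at *; rw [map_pow, map_pow, a, conj_pow]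

theorem cm (a : Cj ι g x y) (b : Cj ι g x' y') : Cj ι g (cm x x') (cm y y') :=
  ((a.mul b).mul a.inv).mul b.inv

theorem symm (a : Cj ι g x y) : Cj ι g⁻¹ y x := by
  unfold Cj at *; rw [a]; group

theorem trans (a : Cj ι g x y) (b : Cj ι h y x') : Cj ι (h * g) x x' := by
  unfold Cj at *; rw [b, a]; group

theorem of (k x : P) : Cj ι (ι k) x (k * x * k⁻¹) := by simp [Cj]

theorem eq_iff (i : Function.Injective ι) (a : Cj ι g x y) (b : Cj ι g x' y') :
    x = x' ↔ y = y' := by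
  unfold Cj at *
  rw [← i.eq_iff, ← i.eq_iff (a := y), a, b]; simp

theorem one_iff (i : Function.Injective ι) (a : Cj ι g x y) : x = 1 ↔ y = 1 := a.eq_iff i one

theorem comm (i : Function.Injective ι) (a : Cj ι g x y) (b : Cj ι g x' y') :
    x * x' = x' * x ↔ y * y' = y' * y := (a.mul b).eq_iff i (b.mul a)

theorem isConj (a : Cj ι g x y) : IsConj (ι x) (ι y) := isConj_iff.2 ⟨g, Eq.symm a⟩

theorem of_isConj (a : IsConj (ι x) (ι y)) : ∃ g, Cj ι g x y := (isConj_iff.1 a).imp fun _ e => e.symm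

theorem self : Cj ι g x x ↔ g * ι x = ι x * g := by rw [Cj, eq_comm, mul_inv_eq_iff_eq_mul]

end Cj

/-- the conjugates in `P` of the elements of `H` -/
def img (ι : P →* G) (g : G) (H : Subgroup P) : Subgroup P :=
  (H.map ((MulAut.conj g).toMonoidHom.comp ι)).comap ι

theorem mem_img {ι : P →* G} {g : G} {H : Subgroup P} {y : P} :
    y ∈ img ι g H ↔ ∃ x ∈ H, Cj ι g x y := exists_congr fun _ => and_congr_right' eq_comm

theorem card_le_cj [Finite P] {ι : P →* G} (i : Function.Injective ι) {g : G} {H L : Subgroup P}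
    (h : ∀ x ∈ H, ∃ y ∈ L, Cj ι g x y) : Nat.card H ≤ Nat.card L := by
  choose f h1 h2 using h
  exact Nat.card_le_card_of_injective (fun x : H => (⟨f x x.2, h1 x x.2⟩ : L)) fun x y e =>
    Subtype.ext (((h2 x x.2).eq_iff i (h2 y y.2)).2 (congrArg Subtype.val e))

theorem exists_cj {ι : P →* G} {g : G} {H : Subgroup P} (h : g ∈ 𝐍[H.map ι]) {x : P} (hx : x ∈ H) :
    ∃ y ∈ H, Cj ι g x y := conj_mem_of_mem_normalizer h (mem_map_of_mem ι hx)

theorem mem_norm [Finite G] {ι : P →* G} {g : G} {H : Subgroup P}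
    (h : ∀ x ∈ H, ∃ y ∈ H, Cj ι g x y) : g ∈ 𝐍[H.map ι] :=
  mem_normalizer_fintype (by rintro _ ⟨x, hx, rfl⟩; exact h x hx)

theorem mem_norm' [Finite G] (ι : P →* G) (H : Subgroup P) [hn : H.Normal] (k : P) :
    ι k ∈ 𝐍[H.map ι] := mem_norm fun x hx => ⟨_, hn.conj_mem x hx k, Cj.of k x⟩

theorem isConj_of (ι : P →* G) {x y : P} (k : P) (h : k * x * k⁻¹ = y) : IsConj (ι x) (ι y) :=
  (h ▸ Cj.of k x : Cj ι _ x y).isConj

/-- a permutation of `3`-power order on a set of size prime to `9` modulo the fixed points -/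
theorem nine_dvd {X : Type*} [Finite X] (σ : Equiv.Perm X) {n : ℕ} (h : σ ^ 3 ^ n = 1) :
    9 ∣ Nat.card {x // (σ ^ 3) x ≠ x} := by
  classical
  have := Fintype.ofFinite X
  have hi : ∀ x, (σ ^ 3) (σ x) ≠ σ x ↔ (σ ^ 3) x ≠ x := fun x => by
    rw [← Equiv.Perm.mul_apply, ← pow_succ, pow_succ', Equiv.Perm.mul_apply, σ.injective.ne_iff]
  let τ := σ.subtypePerm (p := fun x => (σ ^ 3) x ≠ x) hi
  have h3 : ∀ x, (τ ^ 3) x ≠ x := fun x e => x.2 (by
    have := congrArg Subtype.val e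
    rwa [Equiv.Perm.subtypePerm_pow] at this)
  have hn : τ ^ 3 ^ n = 1 := by
    ext x; rw [Equiv.Perm.subtypePerm_pow]; simp [h]
  have hs : τ.support = Finset.univ := Finset.eq_univ_of_forall fun x =>
    Equiv.Perm.mem_support.2 fun e => h3 x (Equiv.Perm.pow_apply_eq_self_of_apply_eq_self e 3)
  rw [Nat.card_eq_fintype_card, ← Finset.card_univ, ← hs, ← Equiv.Perm.sum_cycleType]
  refine Multiset.dvd_sum fun m hm => ?_
  obtain ⟨j, -, rfl⟩ := (Nat.dvd_prime_pow Nat.prime_three).1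
    ((Equiv.Perm.dvd_of_mem_cycleType hm).trans (orderOf_dvd_of_pow_eq_one hn))
  rw [Equiv.Perm.cycleType_def, Multiset.mem_map] at hm
  obtain ⟨c, hc, e⟩ := hm
  have hc' := Equiv.Perm.mem_cycleFactorsFinset_iff.1 hc
  obtain ⟨x, hx, -⟩ := hc'.1
  have hx' := Equiv.Perm.mem_support.2 hx
  rcases j with _ | _ | j
  · exact absurd (hc'.1.two_le_card_support.trans_eq e) (by norm_num)
  · refine absurd ?_ (h3 x)
    have e1 := Equiv.Perm.cycle_is_cycleOf hx' hc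
    have e2 : c ^ 3 = 1 := orderOf_dvd_iff_pow_eq_one.1 (by rw [hc'.1.orderOf]; exact dvd_of_eq e)
    rw [← Equiv.Perm.cycleOf_pow_apply_self, ← e1, e2]; rfl
  · exact ⟨3 ^ j, by ring⟩

namespace Fz
variable [Finite G] {ι : P →* G} {S : Sylow 2 G} (F : Fz ι S)
include F

theorem intoN {N Q : Subgroup G} (hN : ∀ x, ι x ∈ N) (hQ : IsPGroup 2 Q) (h : Q ≤ N) :
    ∃ n ∈ N, ∀ q ∈ Q, ∃ y, ι y = n * q * n⁻¹ := by
  obtain ⟨n, hn, e⟩ := (isSyl_of_le S (L := N) fun g hg => by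
    obtain ⟨x, rfl⟩ := (F.range g).1 hg; exact hN x).exists_cj_le hQ h
  exact ⟨n, hn, fun q hq => (F.range _).1 (e (conj_mem_cj n hq))⟩

theorem amal {N Q R : Subgroup G} (hQ : IsPGroup 2 Q) (hR : IsPGroup 2 R) (h1 : Q ≤ N) (h2 : R ≤ N) :
    ∃ n ∈ N, ∃ k, (∀ q ∈ Q, ∃ y, ι y = k * q * k⁻¹) ∧ ∀ r ∈ R, ∃ y, ι y = k * n * r * (k * n)⁻¹ := by
  obtain ⟨T, hT, h3⟩ := exists_isSyl_ge hQ h1
  obtain ⟨n, hn, e⟩ := hT.exists_cj_le hR h2
  obtain ⟨k, hk⟩ := F.into hT.pgrp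
  exact ⟨n, hn, k, fun q hq => hk q (h3 hq), fun r hr =>
    (hk _ (e (conj_mem_cj n hr))).imp fun y e => by rw [e]; group⟩

theorem pmap (H : Subgroup P) : IsPGroup 2 (H.map ι) := (F.two.to_subgroup _).map ι

theorem ext' {z t : P} (hz : ∀ g, g * z = z * g) (h : IsConj (ι t) (ι z)) :
    ∃ g, Cj ι g t z ∧ ∀ x, x * t = t * x → ∃ y, Cj ι g x y := by
  obtain ⟨g, f, h1, h2, -⟩ := F.ext hz h
  exact ⟨g, h2 ▸ h1 t rfl, fun x hx => ⟨_, h1 x hx⟩⟩

end Fz

/-- The hypotheses on the normal four-group `U`. -/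
structure Pre (ι : P →* G) (S : Sylow 2 G) (U : Subgroup P) : Prop extends Fz ι S where
  no : NoE8 P
  normal : U.Normal
  card : Nat.card U = 4
  sq : ∀ u ∈ U, u ^ 2 = 1
  invK : ∃ v ∈ centralizer (U : Set P), v ∉ U ∧ v ^ 2 = 1

/-- `s` lies outside the centralizer of `U` and inverts `g`. -/
structure Out (ι : P →* G) (U : Subgroup P) (g : G) (s : P) : Prop where
  nm : s ∉ centralizer (U : Set P)
  inv : ι s * g * (ι s)⁻¹ = g⁻¹

/-- `g` is an element of `3`-power order inducing `α` on the centralizer of `U`. -/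
structure Ctx (ι : P →* G) (S : Sylow 2 G) (U : Subgroup P) (g : G) (α : P → P) : Prop
    extends Pre ι S U where
  mem : ∀ x ∈ centralizer (U : Set P), α x ∈ centralizer (U : Set P)
  cj : ∀ x ∈ centralizer (U : Set P), Cj ι g x (α x)
  memU : ∀ u ∈ U, α u ∈ U
  fpf : ∀ u ∈ U, α u = u → u = 1
  three : ∃ n, g ^ 3 ^ n = 1
  out : centralizer (U : Set P) = ⊤ ∨ ∃ s, Out ι U g s

namespace Pre
variable [Finite G] {ι : P →* G} {S : Sylow 2 G} {U : Subgroup P} (c : Pre ι S U)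
include c

local notation "𝐊" => centralizer (U : Set P)

theorem uu {u : P} (hu : u ∈ U) : u * u = 1 := by rw [← pow_two, c.sq u hu]

theorem uinv {u : P} (hu : u ∈ U) : u⁻¹ = u := inv_eq_of_mul_eq_one_left (c.uu hu)

theorem le_K : U ≤ 𝐊 := fun u hu v hv => by
  rw [← c.uinv (U.mul_mem hv hu), mul_inv_rev, c.uinv hu, c.uinv hv]

omit c in
theorem cenK {u x : P} (hu : u ∈ U) (hx : x ∈ 𝐊) : x * u = u * x := (hx u hu).symm

theorem K_normal : (𝐊).Normal := have := c.normal; inferInstance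

theorem idxK (x y : P) (hx : x ∉ 𝐊) (hy : y ∉ 𝐊) : x⁻¹ * y ∈ 𝐊 := by
  have := c.finite
  have := c.normal
  have h := Grp.PChain.index_centralizer_le_of_card_sq c.two U c.card
  refine idx_two (W := ⊤) le_top ?_ x trivial y trivial hx hy
  rw [card_top, ← (𝐊).index_mul_card]
  exact Nat.mul_le_mul_right _ h

theorem four {a b u : P} (ha : a ∈ U) (hb : b ∈ U) (h1 : a ≠ 1) (h2 : b ≠ 1) (h3 : b ≠ a)
    (hu : u ∈ U) : u = 1 ∨ u = a ∨ u = b ∨ u = a * b :=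
  have := c.finite
  eq_of_card_le_four c.card.le ha hb hu h1 h2 h3 (c.sq a ha)

theorem mem_U {v : P} (hv : v ^ 2 = 1) (hK : v ∈ 𝐊) (hs : ∀ s, cm v s ∈ U) : v ∈ U :=
  have := c.finite
  have := c.normal
  mem_of_four c.no c.card c.sq hv hK hs

/-- the central involution -/
theorem exists_z {s : P} (hs : s ∉ 𝐊) : ∃ z ∈ U, z ≠ 1 ∧ (∀ x, x * z = z * x) ∧
    ∀ u ∈ U, u ≠ 1 → u ≠ z → s * u * s⁻¹ = z * u := by
  have := c.finite
  have := c.normal
  obtain ⟨z, hz, h1, h2⟩ := exists_om c.two U ⊥ fun e => by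
    have := card_le_of_le e
    rw [c.card, card_bot] at this; omega
  have h3 : ∀ x, x * z = z * x := fun x => (cm_one_iff.1 (h2.2.2 x trivial)).symm
  refine ⟨z, hz, h1, h3, fun u hu k1 k2 => ?_⟩
  rcases c.four hz hu h1 k1 k2 (c.normal.conj_mem u hu s) with e | e | e | e
  · exact absurd (by simpa using e) k1
  · rw [mul_inv_eq_iff_eq_mul, ← h3, mul_right_inj] at e; exact absurd e k2
  · refine absurd (fun v hv => ?_) hs
    rw [mul_inv_eq_iff_eq_mul] at e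
    rcases c.four hz hu h1 k1 k2 hv with rfl | rfl | rfl | rfl
    · simp
    · exact (h3 s).symm
    · exact e.symm
    · rw [mul_assoc, ← e, ← mul_assoc, ← h3, mul_assoc]
  · exact e

theorem three_part {g : G} (hU : g ∈ 𝐍[U.map ι]) (hf : ∀ u ∈ U, Cj ι g u u → u = 1) :
    ∃ m n : ℕ, (g ^ m) ^ 3 ^ n = 1 ∧ ∀ u ∈ U, Cj ι (g ^ m) u u → u = 1 := by
  obtain ⟨n, m, hm, e⟩ := Nat.exists_eq_pow_mul_and_not_dvd (orderOf_pos g).ne' 3 (by norm_num)
  refine ⟨m, n, by rw [← pow_mul, mul_comm, ← e, pow_orderOf_eq_one], fun u hu h => ?_⟩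
  by_contra h1
  obtain ⟨v, hv, e1⟩ := exists_cj hU hu
  obtain ⟨w, hw, e2⟩ := exists_cj hU hv
  have n1 : v ≠ 1 := fun e => h1 ((e1.one_iff c.inj).2 e)
  have n2 : v ≠ u := fun e => h1 (hf u hu (by rwa [e] at e1))
  have e3 : w = u * v := by
    rcases c.four hu hv h1 n1 n2 hw with e | e | e | e
    · exact absurd ((e2.one_iff c.inj).2 e) n1
    · have := e1.mul e2
      rw [e, cenK hu (c.le_K hv)] at this
      exact absurd (by rw [← c.uinv hu, eq_inv_iff_mul_eq_one, cenK hu (c.le_K hv)]; exact hf _ (U.mul_mem hu hv) this) n2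
    · exact absurd (hf v hv (by rwa [e] at e2)) n1
    · exact e
  have e4 := e1.mul e2
  rw [e3, cenK hv (c.le_K hu), ← mul_assoc, c.uu hv, one_mul, ← cenK hv (c.le_K hu), ← e3] at e4
  have e5 := (e1.trans e2).trans e4
  refine h1 (hf u hu (Cj.self.2 (mem_centralizer_singleton_iff.1 (mem_of_pow_coprime (m := 3) (n := m)
    (mem_centralizer_singleton_iff.2 (Cj.self.1 ?_)) (mem_centralizer_singleton_iff.2 (Cj.self.1 h))
    ((Nat.Prime.coprime_iff_not_dvd Nat.prime_three).2 hm)))))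
  rwa [pow_three]

theorem mk_ctx {g : G} (hK : g ∈ 𝐍[(𝐊).map ι]) (hU : g ∈ 𝐍[U.map ι])
    (hf : ∀ u ∈ U, Cj ι g u u → u = 1) (h3 : ∃ n, g ^ 3 ^ n = 1) (ho : 𝐊 = ⊤ ∨ ∃ s, Out ι U g s) :
    ∃ α, Ctx ι S U g α := by
  have : ∀ x, ∃ y, x ∈ 𝐊 → y ∈ 𝐊 ∧ Cj ι g x y := fun x => by
    by_cases hx : x ∈ 𝐊
    · exact (exists_cj hK hx).imp fun _ e _ => e
    · exact ⟨1, fun e => absurd e hx⟩
  choose α hα using this
  refine ⟨α, c, fun x hx => (hα x hx).1, fun x hx => (hα x hx).2, fun u hu => ?_,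
    fun u hu e => hf u hu (by have := (hα u (c.le_K hu)).2; rwa [e] at this), h3, ho⟩
  obtain ⟨y, hy, e⟩ := exists_cj hU hu
  rwa [((hα u (c.le_K hu)).2.eq_iff c.inj e).1 rfl]

theorem ctx_top (hc : ∀ u ∈ U, ∀ v ∈ U, u ≠ 1 → v ≠ 1 → IsConj (ι u) (ι v)) (hK : 𝐊 = ⊤) :
    ∃ g α, Ctx ι S U g α := by
  have := c.finite
  have cen : ∀ u ∈ U, ∀ x, x * u = u * x := fun u hu x => cenK hu (hK ▸ mem_top x)
  obtain ⟨z, hz, z1⟩ := Misc.exists_mem_not_mem_of_card_lt (A := ⊥) (B := U) (by rw [card_bot, c.card]; omega)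
  obtain ⟨t, ht, t1⟩ := Misc.exists_mem_not_mem_of_card_lt (A := zpowers z) (B := U)
    ((card_zpowers_le (c.sq z hz)).trans_lt (by rw [c.card]; omega))
  have t2 : t ≠ 1 := by rintro rfl; exact t1 (one_mem _)
  have t3 : t ≠ z := by rintro rfl; exact t1 (mem_zpowers _)
  obtain ⟨g, e1, e2⟩ := c.ext' (cen z hz) (hc t ht z hz t2 z1)
  have hg : g ∈ 𝐍[(⊤ : Subgroup P).map ι] :=
    mem_norm fun x _ => (e2 x (cen t ht x)).imp fun _ e => ⟨trivial, e⟩
  have hU : g ∈ 𝐍[U.map ι] := mem_norm fun u hu => by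
    obtain ⟨y, e⟩ := e2 u (cen t ht u)
    have : ∀ s, y * s = s * y := fun s => by
      obtain ⟨r, -, e'⟩ := exists_cj (inv_mem hg) (mem_top s)
      exact (e.comm c.inj (by simpa using e'.symm)).1 (cen u hu r).symm
    exact ⟨y, c.mem_U (((e.pow 2).one_iff c.inj).1 (c.sq u hu)) (hK ▸ mem_top y)
      fun s => by rw [cm_one_iff.2 (this s)]; exact one_mem _, e⟩
  obtain ⟨m, n, h1, h2⟩ := c.three_part hU fun u hu e => by
    by_contra h1
    rcases c.four hz ht z1 t2 t3 hu with rfl | rfl | rfl | rfl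
    · exact h1 rfl
    · exact t3 ((e1.eq_iff c.inj e).2 rfl)
    · exact t3 ((e.eq_iff c.inj e1).1 rfl)
    obtain ⟨m, hm, h3⟩ := Fz.exists_odd_pow (S := S) (g := g) (by
      convert hg; ext y; exact (c.range y).trans (by simp))
    obtain ⟨s, hs⟩ := (c.range _).1 h3
    have e3 := e.mul e1
    rw [mul_assoc, c.uu ht, mul_one, mul_assoc, cen z hz, ← mul_assoc, c.uu hz, one_mul] at e3
    have e4 : Cj ι g t t := Cj.self.2 (mem_centralizer_singleton_iff.1 (mem_of_pow_coprime (m := 2)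
      (n := m) (mem_centralizer_singleton_iff.2 (Cj.self.1 (by rw [pow_two]; exact e1.trans e3)))
      (mem_centralizer_singleton_iff.2 (by rw [← hs, ← map_mul, cen t ht, map_mul]))
      (Nat.coprime_two_left.2 hm)))
    exact t3 ((e4.eq_iff c.inj e1).1 rfl)
  exact ⟨_, c.mk_ctx (pow_mem (hK ▸ hg) m) (pow_mem hU m) h2 ⟨n, h1⟩ (Or.inl hK)⟩

theorem exists_norm (hc : ∀ u ∈ U, ∀ v ∈ U, u ≠ 1 → v ≠ 1 → IsConj (ι u) (ι v)) {z : P} (hz : z ∈ U)
    (z1 : z ≠ 1) (zc : ∀ x, x * z = z * x) (h : ∀ u ∈ U, (∀ x, x * u = u * x) → u = 1 ∨ u = z) :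
    ∃ g ∈ 𝐍[(𝐊).map ι], g ∈ 𝐍[U.map ι] ∧ ¬ Cj ι g z z := by
  have := c.finite
  have := c.normal
  obtain ⟨u, hu, u0⟩ := Misc.exists_mem_not_mem_of_card_lt (A := zpowers z) (B := U)
    ((card_zpowers_le (c.sq z hz)).trans_lt (by rw [c.card]; omega))
  have u1 : u ≠ 1 := by rintro rfl; exact u0 (one_mem _)
  have u2 : u ≠ z := by rintro rfl; exact u0 (mem_zpowers _)
  obtain ⟨g, e1, e2⟩ := c.ext' zc (hc u hu z hz u1 z1)
  have e3 : ∀ H ≤ 𝐊, ∀ x ∈ H, ∃ y ∈ img ι g H, Cj ι g x y := fun H hH x hx =>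
    (e2 x (cenK hu (hH hx))).imp fun y e => ⟨mem_img.2 ⟨x, hx, e⟩, e⟩
  have c1 := card_le_cj c.inj (e3 𝐊 le_rfl)
  have hi : (img ι g 𝐊).index ≤ 2 := by
    have h1 := Grp.PChain.index_centralizer_le_of_card_sq c.two U c.card
    have h2 := (𝐊).index_mul_card
    have h3 := (img ι g 𝐊).index_mul_card
    have : 0 < Nat.card 𝐊 := Nat.card_pos
    nlinarith
  have hsq : ∀ x, x ^ 2 ∈ img ι g 𝐊 := fun x => by
    have := (img ι g 𝐊).index_ne_zero_of_finite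
    rcases (show (img ι g 𝐊).index = 1 ∨ (img ι g 𝐊).index = 2 by omega) with e | e
    · rw [index_eq_one.1 e]; trivial
    · exact sq_mem_of_index_two e x
  have hn : (img ι g 𝐊).Normal := Grp.PChain.normal_of_commutator_mem fun b _ x =>
    cm_mem_of_sq (K := ⊤) (fun x _ => hsq x) trivial trivial
  have hn' : (sqs (img ι g 𝐊)).Normal := ⟨fun x hx y => by
    refine sqs_le (N := (sqs (img ι g 𝐊)).comap (MulAut.conj y).toMonoidHom) (fun a ha => ?_) hx
    rw [mem_comap, map_pow]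
    exact sq_mem_sqs (hn.conj_mem a ha y)⟩
  obtain ⟨y, y1, y2, y3⟩ := exists_om c.two (sqs (img ι g 𝐊)) ⊥ fun e => by
    obtain ⟨v, v1, v2, -⟩ := c.invK
    have h1 := card_le_four c.no hn fun a ha => e (sq_mem_sqs ha)
    have h2 := two_mul_le c.le_K v1 v2
    rw [c.card] at h2
    omega
  have y4 : ∀ x, x * y = y * x := fun x => (cm_one_iff.1 (y3.2.2 x trivial)).symm
  obtain rfl : y = z := (h y (c.mem_U y3.2.1 (fun a _ => y4 a) fun s => by
    rw [y3.2.2 s trivial]; exact one_mem _) y4).resolve_left y2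
  have hu' : u ∈ img ι g 𝐊 := by
    obtain ⟨x, hx, e⟩ := mem_img.1 (sqs_le (N := img ι g (sqs 𝐊)) (fun a ha => by
      obtain ⟨x, hx, e⟩ := mem_img.1 ha
      exact mem_img.2 ⟨_, sq_mem_sqs hx, e.pow 2⟩) y1)
    rw [(e1.eq_iff c.inj e).2 rfl]
    exact sqs_le (fun a _ => hsq a) hx
  have hE := om_normal (K := img ι g 𝐊) (N := ⊥)
  have e4 : ∀ x ∈ U, ∀ w, Cj ι g x w → w ∈ om (img ι g 𝐊) ⊥ := fun x hx w e =>
    ⟨mem_img.2 ⟨x, c.le_K hx, e⟩, ((e.pow 2).one_iff c.inj).1 (c.sq x hx), fun s hs => by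
      obtain ⟨r, hr, e'⟩ := mem_img.1 hs
      exact cm_one_iff.2 ((e.comm c.inj e').1 (hr x hx))⟩
  have c2 := card_le_cj c.inj (L := om (img ι g 𝐊) ⊥) fun x hx =>
    (e3 U c.le_K x hx).imp fun w e => ⟨e4 x hx w e.2, e.2⟩
  have c3 := card_le_four c.no hE fun a ha => ha.2.1
  have hy := e4 u hu y e1
  have hu2 : u ∈ om (img ι g 𝐊) ⊥ := mem_of_four c.no (le_antisymm c3 (c.card ▸ c2)) (fun a ha => ha.2.1)
    (c.sq u hu) (fun a ha => cm_one_iff.1 (ha.2.2 u hu')) fun s => by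
      rcases c.four hz hu z1 u1 u2 (c.normal.conj_mem u hu s) with e | e | e | e
      · exact absurd (by simpa using e) u1
      · rw [mul_inv_eq_iff_eq_mul, ← zc, mul_right_inj] at e; exact absurd e u2
      · rw [cm_one_iff.2 (mul_inv_eq_iff_eq_mul.1 e).symm]; exact one_mem _
      · rw [cm_swap, cm, e, mul_inv_cancel_right]; exact inv_mem hy
  have hUE : U = om (img ι g 𝐊) ⊥ := eq_of_le_card (fun x hx => by
    rcases c.four hz hu z1 u1 u2 hx with rfl | rfl | rfl | rfl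
    exacts [one_mem _, hy, hu2, mul_mem hy hu2]) (c.card ▸ c3)
  refine ⟨g, mem_norm fun x hx => (e3 𝐊 le_rfl x hx).imp fun w e => ⟨fun a ha => ?_, e.2⟩,
    mem_norm fun x hx => (e3 U c.le_K x hx).imp fun w e => ⟨hUE ▸ e4 x hx w e.2, e.2⟩,
    fun e => u2 ((e1.eq_iff c.inj e).2 rfl)⟩
  have : a ∈ om (img ι g 𝐊) ⊥ := hUE ▸ ha
  exact cm_one_iff.1 (this.2.2 w e.1)

theorem exists_ctx (hc : ∀ u ∈ U, ∀ v ∈ U, u ≠ 1 → v ≠ 1 → IsConj (ι u) (ι v)) :
    ∃ g α, Ctx ι S U g α := by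
  by_cases hK : 𝐊 = ⊤
  · exact c.ctx_top hc hK
  have := c.normal
  have := c.K_normal
  obtain ⟨s, -, hs⟩ := SetLike.not_le_iff_exists.1 (mt top_le_iff.1 hK)
  obtain ⟨z, hz, z1, zc, hzs⟩ := c.exists_z hs
  obtain ⟨g, h1, h2, h3⟩ := c.exists_norm hc hz z1 zc fun u hu h => by
    by_contra h4
    push Not at h4
    have := hzs u hu h4.1 h4.2
    rw [h, mul_inv_cancel_right, right_eq_mul] at this
    exact z1 this
  have hn : ∀ H : Subgroup P, H.Normal → g ∈ 𝐍[H.map ι] → ι s * (g * ι s * g⁻¹) ∈ 𝐍[H.map ι] :=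
    fun H _ h => mul_mem (mem_norm' ι H s) (mul_mem (mul_mem h (mem_norm' ι H s)) (inv_mem h))
  obtain ⟨z', hz', e0⟩ := exists_cj h2 hz
  obtain ⟨m, n, h4, h5⟩ := c.three_part (hn U c.normal h2) fun v hv e => by
    by_contra v1
    obtain ⟨x, hx, e1⟩ := exists_cj (inv_mem h2) hv
    have x1 : x ≠ 1 := fun e => v1 ((e1.one_iff c.inj).2 e)
    have e2 : Cj ι g x v := by simpa using e1.symm
    have key : ∀ w, Cj ι g (s * x * s⁻¹) w → s * w * s⁻¹ = v := fun w e3 => by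
      have := ((e1.trans (Cj.of s x)).trans e3).trans (Cj.of s w)
      exact ((by simpa only [mul_assoc] using this : Cj ι (ι s * (g * ι s * g⁻¹)) v _).eq_iff c.inj e).1 rfl
    by_cases hxz : x = z
    · have e4 := key v (by rw [hxz, zc, mul_inv_cancel_right, ← hxz]; exact e2)
      by_cases hvz : v = z
      · exact h3 (by rwa [hxz, hvz] at e2)
      · rw [hzs v hv v1 hvz, mul_eq_right] at e4; exact z1 e4
    · have e4 := key _ (hzs x hx x1 hxz ▸ e0.mul e2)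
      by_cases hw : z' * v = z
      · rw [hw, zc, mul_inv_cancel_right] at e4
        rw [← e4, mul_eq_right] at hw
        exact z1 ((e0.one_iff c.inj).2 hw)
      · rw [hzs _ (U.mul_mem hz' hv) (fun e => ?_) hw, ← mul_assoc, mul_eq_right, mul_eq_one_iff_eq_inv,
          c.uinv hz'] at e4
        · exact h3 (by rwa [← e4] at e0)
        · rw [e] at e4; exact v1 (by simpa using e4.symm)
  obtain ⟨d, hd⟩ : ∃ d, d = ι s * (g * ι s * g⁻¹) := ⟨_, rfl⟩
  have hdK := hd ▸ hn 𝐊 this h1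
  rw [← hd] at h4 h5
  have s2 : s * s ∈ 𝐊 := by simpa using c.idxK s⁻¹ s (by simpa using hs) hs
  have h6 : ∀ j : ℕ, (ι s * d * (ι s)⁻¹) ^ j * d ^ j ∈ (𝐊).map ι := fun j => by
    induction j with
    | zero => simp
    | succ j ih =>
      have h7 := mul_mem (mem_map_of_mem ι s2) (conj_mem_of_mem_normalizer h1 (mem_map_of_mem ι s2))
      convert mul_mem h7 (inv_conj_mem_of_mem_normalizer hdK ih) using 1
      rw [pow_succ', pow_succ, map_mul]
      generalize (ι s * d * (ι s)⁻¹) ^ j = a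
      generalize d ^ j = b
      rw [hd]; group
  have h7 := h6 m
  rw [conj_pow] at h7
  have hN : zpowers (d ^ m) ≤ 𝐍[(𝐊).map ι] := zpowers_le.2 (pow_mem hdK m)
  have : Fact (Nat.Prime 3) := ⟨Nat.prime_three⟩
  obtain ⟨T, hT, h8⟩ := exists_isSyl_ge (L := zpowers (d ^ m) ⊔ (𝐊).map ι) (isPGroup_zpowers ⟨n, h4⟩) le_sup_left
  obtain ⟨x, hx, h9⟩ := hT.exists_cj_le (R := zpowers (ι s * d ^ m * (ι s)⁻¹))
    (isPGroup_zpowers ⟨n, by rw [conj_pow, h4]; simp⟩) (zpowers_le.2 (by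
      simpa using mul_mem (mem_sup_right h7) (inv_mem (mem_sup_left (mem_zpowers (d ^ m))))))
  obtain ⟨a, ha, _, ⟨k, hk, rfl⟩, rfl⟩ := (mem_sup_of_le_normalizer_right hN).1 hx
  have k1 : ι k * (ι s * d ^ m * (ι s)⁻¹) * (ι k)⁻¹ * d ^ m ∈ T := by
    have := mul_mem (mul_mem (inv_mem (h8 ha)) (h9 (conj_mem_cj _ (mem_zpowers _)))) (h8 ha)
    exact mul_mem (by simpa [mul_assoc] using this) (h8 (mem_zpowers _))
  have k2 : ι k * (ι s * d ^ m * (ι s)⁻¹) * (ι k)⁻¹ * d ^ m ∈ (𝐊).map ι := by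
    have := mul_mem (mul_mem (mem_map_of_mem ι hk) h7)
      (inv_conj_mem_of_mem_normalizer (pow_mem hdK m) (inv_mem (mem_map_of_mem ι hk)))
    simpa [mul_assoc] using this
  have k3 := (disjoint_def.1 (IsPGroup.disjoint_of_ne 3 2 (by norm_num) _ _ hT.pgrp (c.pmap 𝐊))) k1 k2
  exact ⟨_, c.mk_ctx (pow_mem hdK m) (pow_mem (hd ▸ hn U c.normal h2) m) h5 ⟨n, h4⟩ (Or.inr ⟨k * s,
    fun e => hs (by simpa using mul_mem (inv_mem hk) e), by
      rw [eq_inv_iff_mul_eq_one, ← k3, map_mul]; group⟩)⟩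

end Pre

end Cfsg.Agent.NR2
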