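import Mathlib
import Cfsg.Agent.NR2.Ctx

set_option autoImplicit false
set_option linter.unusedSectionVars false

/-! The automorphism `α` of the centralizer of the normal four-group. -/

namespace Cfsg.Agent.NR2
open Cfsg Subgroup MacW PLocal.Amb
open scoped commutatorElement

variable {P G : Type*} [Group P] [Group G]

theorem cm_mul_left' {x y w : P} (h : x * cm y w = cm y w * x) : cm (x * y) w = cm y w * cm x w := by
  rw [cm_mul_left, h, mul_inv_cancel_right]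

theorem cm_mul_right' {x y w : P} (h : y * cm x w = cm x w * y) : cm x (y * w) = cm x y * cm x w := by
  calc cm x (y * w) = cm x y * (y * cm x w) * y⁻¹ := by unfold cm; group
    _ = _ := by rw [h]; group

theorem sq_mul_of_inv {x y : P} (hx : x * x = 1) (hy : y * y = 1) : (x * y) ^ 2 = cm x y := by
  rw [cm, inv_eq_of_mul_eq_one_left hx, inv_eq_of_mul_eq_one_left hy, sq, mul_assoc, mul_assoc, mul_assoc]

theorem Out.inv' {ι : P →* G} {U : Subgroup P} {g : G} {s : P} (hs : Out ι U g s) :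
    ι s * g⁻¹ * (ι s)⁻¹ = g := by
  simpa [mul_assoc] using congrArg (·⁻¹) hs.inv

namespace Ctx
variable [Finite G] {ι : P →* G} {S : Sylow 2 G} {U : Subgroup P} {g : G} {α : P → P}
  (c : Ctx ι S U g α) {x y s : P} {H : Subgroup P}
include c

local notation "𝐊" => centralizer (U : Set P)

theorem eq_of (hx : x ∈ 𝐊) (e : Cj ι g x y) : α x = y := ((c.cj x hx).eq_iff c.inj e).1 rfl

theorem mul (hx : x ∈ 𝐊) (hy : y ∈ 𝐊) : α (x * y) = α x * α y :=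
  c.eq_of (mul_mem hx hy) ((c.cj x hx).mul (c.cj y hy))

theorem one : α 1 = 1 := c.eq_of (one_mem _) Cj.one

theorem inv (hx : x ∈ 𝐊) : α x⁻¹ = (α x)⁻¹ := c.eq_of (inv_mem hx) (c.cj x hx).inv

theorem pow (hx : x ∈ 𝐊) (n : ℕ) : α (x ^ n) = α x ^ n := c.eq_of (pow_mem hx n) ((c.cj x hx).pow n)

theorem cm_mem (hx : x ∈ 𝐊) (hy : y ∈ 𝐊) : cm x y ∈ 𝐊 :=
  mul_mem (mul_mem (mul_mem hx hy) (inv_mem hx)) (inv_mem hy)

theorem acm (hx : x ∈ 𝐊) (hy : y ∈ 𝐊) : α (cm x y) = cm (α x) (α y) :=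
  c.eq_of (c.cm_mem hx hy) ((c.cj x hx).cm (c.cj y hy))

theorem ainj (hx : x ∈ 𝐊) (hy : y ∈ 𝐊) (e : α x = α y) : x = y :=
  ((c.cj x hx).eq_iff c.inj (c.cj y hy)).2 e

theorem surj (hH : H ≤ 𝐊) (hi : ∀ x ∈ H, α x ∈ H) (hy : y ∈ H) : ∃ x ∈ H, α x = y := by
  have := c.finite
  obtain ⟨x, e⟩ := Finite.surjective_of_injective (f := fun x : H => (⟨α x, hi x x.2⟩ : H))
    (fun a b e => Subtype.ext (c.ainj (hH a.2) (hH b.2) (congrArg Subtype.val e))) ⟨y, hy⟩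
  exact ⟨x, x.2, congrArg Subtype.val e⟩

theorem of_mem (hH : H ≤ 𝐊) (hi : ∀ x ∈ H, α x ∈ H) (hx : x ∈ 𝐊) (h : α x ∈ H) : x ∈ H := by
  obtain ⟨y, hy, e⟩ := c.surj hH hi h
  rwa [← c.ainj (hH hy) hx e]

theorem lift (hH : H ≤ 𝐊) (hi : ∀ x ∈ H, α x ∈ H) (hf : ∀ x ∈ H, α x = x → x = 1) (hy : y ∈ H) :
    ∃ d ∈ H, d⁻¹ * α d = y := by
  have := c.finite
  obtain ⟨x, e⟩ := Finite.surjective_of_injective
    (f := fun x : H => (⟨x⁻¹ * α x, mul_mem (inv_mem x.2) (hi x x.2)⟩ : H)) (fun a b e => by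
      have e1 : (a : P)⁻¹ * α a = (b : P)⁻¹ * α b := congrArg Subtype.val e
      refine Subtype.ext (mul_inv_eq_one.1 (hf _ (mul_mem a.2 (inv_mem b.2)) ?_))
      rw [c.mul (hH a.2) (inv_mem (hH b.2)), c.inv (hH b.2), eq_mul_inv_iff_mul_eq.2
        (show α a * (α b)⁻¹ * b = a * ((a : P)⁻¹ * α a) * ((b : P)⁻¹ * α b)⁻¹ by group), e1]
      group) ⟨y, hy⟩
  exact ⟨x, x.2, congrArg Subtype.val e⟩

theorem fix (hH : H ≤ 𝐊) (hi : ∀ x ∈ H, α x ∈ H) (hf : ∀ x ∈ H, α x = x → x = 1) (hx : x ∈ 𝐊)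
    (h : x⁻¹ * α x ∈ H) : ∃ f ∈ 𝐊, α f = f ∧ f⁻¹ * x ∈ H := by
  obtain ⟨d, hd, e⟩ := c.lift hH hi hf h
  refine ⟨x * d⁻¹, mul_mem hx (inv_mem (hH hd)), ?_, by simpa using hd⟩
  rw [c.mul hx (inv_mem (hH hd)), c.inv (hH hd)]
  calc α x * (α d)⁻¹ = x * (x⁻¹ * α x) * (α d)⁻¹ := by group
    _ = _ := by rw [← e]; group

theorem aU {z : P} (hz : z ∈ U) (h1 : z ≠ 1) : α z ≠ 1 ∧ α z ≠ z ∧ α (α z) = z * α z ∧
    ∀ u ∈ U, u = 1 ∨ u = z ∨ u = α z ∨ u = z * α z := by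
  have m := c.memU z hz
  have n1 : ∀ u ∈ U, u ≠ 1 → α u ≠ 1 := fun u hu h e =>
    h (c.ainj (c.le_K hu) (one_mem _) (e.trans c.one.symm))
  have n2 : α z ≠ z := fun e => h1 (c.fpf z hz e)
  refine ⟨n1 z hz h1, n2, ?_, fun u hu => c.four hz m h1 (n1 z hz h1) n2 hu⟩
  rcases c.four hz m h1 (n1 z hz h1) n2 (c.memU _ m) with e | e | e | e
  · exact absurd e (n1 _ m (n1 z hz h1))
  · refine absurd ((eq_inv_of_mul_eq_one_left (c.fpf _ (mul_mem m hz) ?_)).trans (c.uinv hz)) n2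
    rw [c.mul (c.le_K m) (c.le_K hz), e, Pre.cenK m (c.le_K hz)]
  · exact absurd (c.fpf _ m e) (n1 z hz h1)
  · exact e

theorem a3U {u : P} (hu : u ∈ U) : α (α (α u)) = u := by
  by_cases h : u = 1
  · rw [h, c.one, c.one, c.one]
  have m := c.memU u hu
  rw [(c.aU hu h).2.2.1, c.mul (c.le_K hu) (c.le_K m), (c.aU hu h).2.2.1, Pre.cenK m (c.le_K hu),
    ← mul_assoc, c.uu m, one_mul]

/-- some power of `g` maps a given involution of `U` to another one -/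
theorem exists_pow {u v : P} (hu : u ∈ U) (hv : v ∈ U) (h1 : u ≠ 1) (h2 : v ≠ 1) :
    v = u ∨ v = α u ∨ v = α (α u) :=
  ((c.aU hu h1).2.2.2 v hv).resolve_left h2 |>.imp_right fun e => e.imp_right fun e =>
    e.trans (c.aU hu h1).2.2.1.symm

theorem conj_a (hx : x ∈ 𝐊) : IsConj (ι x) (ι (α x)) := (c.cj x hx).isConj

theorem conjU {u v : P} (hu : u ∈ U) (hv : v ∈ U) (h1 : u ≠ 1) (h2 : v ≠ 1) : IsConj (ι u) (ι v) := by
  rcases c.exists_pow hu hv h1 h2 with rfl | rfl | rfl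
  · exact IsConj.refl _
  · exact c.conj_a (c.le_K hu)
  · exact (c.conj_a (c.le_K hu)).trans (c.conj_a (c.le_K (c.memU u hu)))

theorem nine (hH : H ≤ 𝐊) (hi : ∀ x ∈ H, α x ∈ H) (hU : U ≤ H) (h64 : Nat.card H ≤ 64) (hx : x ∈ H) :
    α (α (α x)) = x := by
  classical
  have := c.finite
  let σ : Equiv.Perm H := Equiv.ofBijective (fun x : H => (⟨α x, hi x x.2⟩ : H))
    (Finite.injective_iff_bijective.1 fun a b e =>
      Subtype.ext (c.ainj (hH a.2) (hH b.2) (congrArg Subtype.val e)))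
  have h1 : ∀ (n : ℕ) (x : H), Cj ι (g ^ n) x ((σ ^ n) x) := fun n x => by
    induction n with
    | zero => simp [Cj]
    | succ n ih => rw [pow_succ', pow_succ']; exact ih.trans (c.cj _ (hH ((σ ^ n) x).2))
  obtain ⟨n, hn⟩ := c.three
  have h2 := nine_dvd σ (n := n) (Equiv.ext fun x => Subtype.ext (c.inj (by
    rw [h1, hn]; simp)))
  have h3 : ∀ x : H, (σ ^ 3) x = x ↔ α (α (α x)) = x := fun x => Subtype.ext_iff
  let F : Subgroup H := (centralizer {g ^ 3}).comap (ι.comp H.subtype)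
  have h4 : ∀ x : H, x ∈ F ↔ (σ ^ 3) x = x := fun x => by
    rw [mem_comap, mem_centralizer_singleton_iff, eq_comm, Subtype.ext_iff, ← c.inj.eq_iff, h1,
      mul_inv_eq_iff_eq_mul]; rfl
  have h5 : Nat.card {x // (σ ^ 3) x ≠ x} + Nat.card F = Nat.card H := by
    rw [← Nat.card_sum]
    exact Nat.card_congr (((Equiv.refl _).sumCongr (Equiv.subtypeEquivRight h4)).trans
      ((Equiv.sumComm _ _).trans (Equiv.sumCompl _)))
  have h6 : Nat.card U ≤ Nat.card F := Nat.card_le_card_of_injective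
    (fun u => ⟨⟨u, hU u.2⟩, (h4 _).2 ((h3 _).2 (c.a3U u.2))⟩) fun a b e =>
      Subtype.ext (congrArg (fun x => x.1.1) e)
  obtain ⟨a, ha⟩ := IsPGroup.iff_card.1 (c.two.to_subgroup H)
  obtain ⟨b, hb⟩ := IsPGroup.iff_card.1 ((c.two.to_subgroup H).to_subgroup F)
  have h7 : Nat.card F = Nat.card H := by
    rw [c.card] at h6
    rw [ha] at h64 h5 ⊢
    rw [hb] at h5 h6 ⊢
    have : a < 7 := (Nat.pow_lt_pow_iff_right (by norm_num)).1 (show 2 ^ a < 2 ^ 7 by omega)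
    have : b < 7 := (Nat.pow_lt_pow_iff_right (by norm_num)).1 (show 2 ^ b < 2 ^ 7 by omega)
    interval_cases a <;> interval_cases b <;> omega
  exact (h3 ⟨x, hx⟩).1 ((h4 _).1 (eq_top_of_card_eq F h7 ▸ mem_top _))

theorem three_rel (hH : H ≤ 𝐊) (hi : ∀ x ∈ H, α x ∈ H) (hf : ∀ x ∈ H, α x = x → x = 1)
    (h3 : ∀ x ∈ H, α (α (α x)) = x) (hx : x ∈ H) :
    α (α x) = (x * α x)⁻¹ ∧ x * α x = α x * x := by
  have key : ∀ x ∈ H, α (α x) = (x * α x)⁻¹ := fun x hx => by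
    obtain ⟨d, hd, rfl⟩ := c.lift hH hi hf hx
    have m1 := hH (hi d hd)
    have m2 := hH (hi _ (hi d hd))
    rw [c.mul (inv_mem (hH hd)) m1, c.inv (hH hd), c.mul (inv_mem m1) m2, c.inv m1, h3 d hd]
    group
  refine ⟨key x hx, ?_⟩
  have := key _ (inv_mem hx)
  rw [c.inv (hH hx), c.inv (hH (hi x hx)), key x hx] at this
  simpa using this

theorem out_a (hs : Out ι U g s) (hx : x ∈ 𝐊) : α (s * α x * s⁻¹) = s * x * s⁻¹ := by
  refine c.eq_of (c.K_normal.conj_mem _ (c.mem x hx) s) ?_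
  have := ((c.cj x hx).trans (Cj.of s _)).symm.trans (Cj.of s x)
  rwa [mul_inv_rev, ← mul_assoc, hs.inv'] at this

theorem out_sq (hs : Out ι U g s) : s * s ∈ 𝐊 ∧ α (s * s) = s * s := by
  have h : s * s ∈ 𝐊 := by simpa using c.idxK s⁻¹ s (by simpa using hs.nm) hs.nm
  refine ⟨h, c.eq_of h (Cj.self.2 ?_)⟩
  rw [map_mul]
  calc g * (ι s * ι s) = ι s * g⁻¹ * (ι s)⁻¹ * (ι s * ι s) := by rw [hs.inv']
    _ = ι s * (ι s * g * (ι s)⁻¹) * ι s := by rw [hs.inv]; group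
    _ = _ := by group

theorem out_fix (hs : Out ι U g s) (hx : x ∈ 𝐊) (e : α x = x) : α (s * x * s⁻¹) = s * x * s⁻¹ := by
  nth_rewrite 1 [← e]; exact c.out_a hs hx

theorem out_mul (hs : Out ι U g s) (hx : x ∈ 𝐊) (e : α x = x) : Out ι U g (x * s) := by
  refine ⟨fun h => hs.nm (by simpa using mul_mem (inv_mem hx) h), ?_⟩
  have := c.cj x hx
  rw [e, Cj.self] at this
  rw [map_mul, show ι x * ι s * g * (ι x * ι s)⁻¹ = ι x * (ι s * g * (ι s)⁻¹) * (ι x)⁻¹ by group,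
    hs.inv, mul_inv_eq_iff_eq_mul, eq_inv_mul_iff_mul_eq, ← mul_assoc, this]
  group

theorem dec (x : P) : x ∈ 𝐊 ∨ ∃ s, Out ι U g s ∧ x * s⁻¹ ∈ 𝐊 := by
  by_cases hx : x ∈ 𝐊
  · exact Or.inl hx
  obtain ⟨s, hs⟩ := c.out.resolve_left fun e => hx (e ▸ mem_top x)
  exact Or.inr ⟨s, hs, by simpa using c.idxK x⁻¹ s⁻¹ (by simpa using hx) (by simpa using hs.nm)⟩

theorem normal_of (h1 : ∀ k ∈ 𝐊, ∀ x ∈ H, k * x * k⁻¹ ∈ H)
    (h2 : ∀ s, Out ι U g s → ∀ x ∈ H, s * x * s⁻¹ ∈ H) : H.Normal := ⟨fun x hx y => by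
  rcases c.dec y with h | ⟨s, hs, h⟩
  · exact h1 y h x hx
  · simpa [mul_assoc] using h1 _ h _ (h2 s hs x hx)⟩

theorem comm_or (hH : H ≤ 𝐊) (hi : ∀ x ∈ H, α x ∈ H) (hU : ∀ x ∈ H, x ^ 2 = 1 → x ∈ U) :
    (∀ x ∈ H, ∀ y ∈ H, x * y = y * x) ∨ (Nat.card H = 64 ∧
      ∀ x ∈ H, (∀ y ∈ H, x * y = y * x) → x ^ 2 = 1) := by
  have := c.finite
  let f : 𝐊 →* 𝐊 := MonoidHom.mk' (fun x => ⟨α x, c.mem x x.2⟩) fun x y => Subtype.ext (c.mul x.2 y.2)
  let a : MulAut 𝐊 := MulEquiv.ofBijective f (Finite.injective_iff_bijective.1 fun x y e =>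
    Subtype.ext (c.ainj x.2 y.2 (congrArg Subtype.val e)))
  refine (NR2.comm_or (c.two.to_subgroup _) a (H := H.subgroupOf 𝐊) (U := U.subgroupOf 𝐊)
    (fun x hx => hi x hx) (by rw [Nat.card_congr (subgroupOfEquivOfLe c.le_K).toEquiv, c.card])
    (fun x hx e => hU x hx (congrArg Subtype.val e))
    fun u hu e => Subtype.ext (c.fpf u hu (congrArg Subtype.val e))).imp
    (fun h x hx y hy => congrArg Subtype.val (h ⟨x, hH hx⟩ hx ⟨y, hH hy⟩ hy)) fun h =>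
      ⟨(Nat.card_congr (subgroupOfEquivOfLe hH).toEquiv).symm.trans h.1, fun x hx e =>
        congrArg Subtype.val (h.2 ⟨x, hH hx⟩ hx fun y hy => Subtype.ext (e y hy))⟩

section om
variable [U.Normal]

local notation "𝐕" => om 𝐊 U

theorem V_inv (hx : x ∈ 𝐕) : α x ∈ 𝐕 := ⟨c.mem x hx.1, by
  rw [← c.pow hx.1]; exact c.memU _ hx.2.1, fun s hs => by
  obtain ⟨r, hr, rfl⟩ := c.surj le_rfl c.mem hs
  rw [← c.acm hx.1 hr]; exact c.memU _ (hx.2.2 r hr)⟩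

theorem V_normal : (𝐕).Normal := have := c.K_normal; om_normal

theorem V_card : Nat.card 𝐕 ≤ 64 := by
  have := c.finite
  have := card_om_le c.two c.no c.le_K
  rwa [c.card] at this

theorem V_fpf' (hx : x ∈ 𝐕) (h : x⁻¹ * α x ∈ U) : x ∈ U := by
  have := c.finite
  let E : Subgroup P :=
    { carrier := {x | x ∈ 𝐕 ∧ x⁻¹ * α x ∈ U}
      one_mem' := ⟨one_mem _, by simp [c.one]⟩
      mul_mem' := fun {a b} ha hb => ⟨mul_mem ha.1 hb.1, by
        rw [c.mul ha.1.1 hb.1.1]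
        simpa [mul_assoc] using mul_mem (c.normal.conj_mem _ ha.2 b⁻¹) hb.2⟩
      inv_mem' := fun {a} ha => ⟨inv_mem ha.1, by
        rw [c.inv ha.1.1]
        simpa [mul_assoc] using c.normal.conj_mem _ (inv_mem ha.2) a⟩ }
  have hU : U ≤ E := fun u hu => ⟨le_om c.le_K hu, mul_mem (inv_mem hu) (c.memU u hu)⟩
  have hn : E.Normal := c.normal_of (fun k hk a ha => by
      have := mul_mem (hU (inv_mem (ha.1.2.2 k hk))) ha
      convert this using 1; unfold cm; group) fun s hs a ha => ⟨c.V_normal.conj_mem a ha.1 s, by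
      have e := c.out_a hs ha.1.1
      have m := c.normal.conj_mem _ ha.2 s
      rw [show s * α a * s⁻¹ = s * a * s⁻¹ * (s * (a⁻¹ * α a) * s⁻¹) by group,
        c.mul (c.K_normal.conj_mem a ha.1.1 s) (c.le_K m), ← eq_mul_inv_iff_mul_eq] at e
      rw [e, inv_mul_cancel_left]
      exact inv_mem (c.memU _ m)⟩
  refine eq_of_le_card hU (c.card ▸ card_le_four c.no hn fun a ha => ?_) ▸ (⟨hx, h⟩ : x ∈ E)
  obtain ⟨f, f1, f2, f3⟩ := c.fix c.le_K c.memU c.fpf ha.1.1 ha.2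
  have e : a ^ 2 = f ^ 2 := by
    rw [← mul_inv_cancel_left f a, (show Commute f _ from Pre.cenK f3 f1).mul_pow, c.sq _ f3, mul_one]
  exact c.fpf _ ha.1.2.1 (by rw [e, c.pow f1, f2])

theorem V_fpf (hx : x ∈ 𝐕) (h : α x = x) : x = 1 :=
  c.fpf x (c.V_fpf' hx (by rw [h]; simp)) h

theorem K_le_V (h : ∀ v ∈ 𝐕, (∀ w ∈ 𝐕, v * w = w * v) → v ∈ U) : 𝐊 ≤ 𝐕 := by
  have := c.finite
  have := c.V_normal
  have hC : centralizer (𝐕 : Set P) ≤ U := by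
    by_contra hne
    obtain ⟨v, h1, h2, h3⟩ := exists_om c.two _ U hne
    exact h2 (h v ⟨fun u hu => h1 u (le_om c.le_K hu), h3.2.1, fun s _ => h3.2.2 s trivial⟩
      fun y hy => (h1 y hy).symm)
  have hs : ∀ t ∈ 𝐊, t ^ 2 ∈ U := fun t ht => hC fun d hd => by
    have : cm t d ∈ U := by rw [cm_swap]; exact U.inv_mem (hd.2.2 t ht)
    exact sq_comm_of (Pre.cenK this ht) (c.sq _ this)
  exact fun t ht => ⟨ht, hs t ht, fun s hs' => cm_mem_of_sq hs ht hs'⟩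

end om

end Ctx

end Cfsg.Agent.NR2
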